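import Mathlib
import Groth.Prelude.Def_W4c6katofiltaWFil

/-!
# Witt vector filtration lemmas
-/

universe u

open WittVector

namespace Groth.Agent.WittFil29

variable {p : ℕ} [hp : Fact p.Prime]

theorem teichmuller_mul_coeff {R : Type u} [CommRing R] (t : R) (x : WittVector p R) (n : ℕ) :
    (teichmuller p t * x).coeff n = t ^ p ^ n * x.coeff n := by
  let P := MvPolynomial (Option ℕ) ℤ
  let T : P := MvPolynomial.X none
  let X : WittVector p P := WittVector.mk p fun i => MvPolynomial.X (some i)
  have key : ∀ i, (teichmuller p T * X).coeff i = T ^ p ^ i * X.coeff i := by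
    let ι : P →+* MvPolynomial (Option ℕ) ℚ := MvPolynomial.map (Int.castRingHom ℚ)
    have hι : Function.Injective ι := MvPolynomial.map_injective _ Int.cast_injective
    intro i
    apply hι
    rw [← map_coeff, map_mul, map_teichmuller, map_mul, map_pow]
    have : Invertible (p : MvPolynomial (Option ℕ) ℚ) := by
      have : Invertible (p : ℚ) := invertibleOfNonzero (Nat.cast_ne_zero.2 hp.out.ne_zero)
      exact ((Invertible.map (MvPolynomial.C : ℚ →+* MvPolynomial (Option ℕ) ℚ) (p : ℚ))).copy _ (by simp)
    have e : teichmuller p (ι T) * WittVector.map ι X = WittVector.mk p fun j => ι T ^ p ^ j * (WittVector.map ι X).coeff j := by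
      apply (ghostMap.bijective_of_invertible p (MvPolynomial (Option ℕ) ℚ)).1
      funext j
      rw [ghostMap_apply, ghostMap_apply, map_mul, ghostComponent_teichmuller, ghostComponent_apply, ghostComponent_apply,
        aeval_wittPolynomial, aeval_wittPolynomial, Finset.mul_sum]
      refine Finset.sum_congr rfl fun k hk => ?_
      rw [coeff_mk, mul_pow, ← pow_mul, ← pow_add, Nat.add_sub_cancel' (Nat.lt_succ_iff.1 (Finset.mem_range.1 hk))]
      ring
    rw [e, coeff_mk, map_coeff]
  let φ : P →+* R := MvPolynomial.eval₂Hom (Int.castRingHom R) (fun o => o.elim t x.coeff)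
  have hφT : φ T = t := MvPolynomial.eval₂Hom_X' _ _ _
  have hφX : WittVector.map φ X = x := by
    ext i
    rw [map_coeff]
    exact MvPolynomial.eval₂Hom_X' _ _ _
  have h := congrArg φ (key n)
  rw [← map_coeff, map_mul, map_teichmuller, hφX, hφT, map_mul, map_pow, hφT, ← map_coeff, hφX] at h
  exact h

theorem integral_mem_range {A B : Type u} [CommRing A] [IsDomain A] [IsIntegrallyClosed A] [CommRing B] [Algebra A B]
    {π : A} (hπ : π ≠ 0) [IsLocalization.Away π B] {b : B} (hb : IsIntegral A b) : b ∈ (algebraMap A B).range := by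
  obtain ⟨⟨a, s⟩, hs⟩ := IsLocalization.surj (Submonoid.powers π) b
  have hle : Submonoid.powers π ≤ nonZeroDivisors A := powers_le_nonZeroDivisors_of_noZeroDivisors hπ
  let φ : B →ₐ[A] FractionRing A :=
    IsLocalization.liftAlgHom (M := Submonoid.powers π) (f := Algebra.ofId A (FractionRing A))
      (fun y => IsLocalization.map_units (FractionRing A) (⟨y.1, hle y.2⟩ : nonZeroDivisors A))
  obtain ⟨a', ha'⟩ := IsIntegrallyClosed.isIntegral_iff.1 (hb.map φ)
  refine ⟨a', ?_⟩
  apply (IsLocalization.map_units B s).mul_left_injective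
  have h2 := congrArg φ hs
  rw [map_mul, AlgHom.commutes, AlgHom.commutes, ← ha', ← map_mul] at h2
  show algebraMap A B a' * algebraMap A B s.1 = b * algebraMap A B s.1
  rw [hs, ← map_mul, IsFractionRing.injective A (FractionRing A) h2]

theorem mem_range_of_pow {A B : Type u} [CommRing A] [IsDomain A] [IsIntegrallyClosed A] [CommRing B] [Algebra A B]
    {π : A} (hπ : π ≠ 0) [IsLocalization.Away π B] {b : B} {N : ℕ} (hN : 0 < N) (hb : b ^ N ∈ (algebraMap A B).range) :
    b ∈ (algebraMap A B).range := by
  obtain ⟨a, ha⟩ := hb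
  exact integral_mem_range hπ (IsIntegral.of_pow hN (ha ▸ isIntegral_algebraMap))

theorem prod_dvd {A : Type u} [CommRing A] [IsDomain A] [UniqueFactorizationMonoid A] {r : ℕ} (x : Fin r → A)
    (hx : ∀ i, Prime (x i)) (hxa : ∀ i j, Associated (x i) (x j) → i = j) {a : A} (h : ∀ i, x i ∣ a) :
    ∏ i, x i ∣ a := by
  have key : ∀ s : Finset (Fin r), ∏ i ∈ s, x i ∣ a := by
    intro s
    induction s using Finset.induction_on with
    | empty => simp
    | insert i s hi ih =>
      rw [Finset.prod_insert hi]
      obtain ⟨c, hc⟩ := ih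
      have h' := h i
      rw [hc] at h'
      rcases (hx i).dvd_or_dvd h' with h'' | h''
      · obtain ⟨k, hk, hk'⟩ := (hx i).exists_mem_finset_dvd h''
        exact absurd (hxa i k ((hx i).associated_of_dvd (hx k) hk') ▸ hk) hi
      · rw [hc, mul_comm (x i)]
        exact mul_dvd_mul_left _ h''
  exact key _

theorem mem_range_of_pow_mul {A B : Type u} [CommRing A] [IsDomain A] [UniqueFactorizationMonoid A] [CommRing B]
    [Algebra A B] {r : ℕ} (x : Fin r → A) (hx : ∀ i, Prime (x i)) (hxa : ∀ i j, Associated (x i) (x j) → i = j)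
    [IsLocalization.Away (∏ i, x i) B] {w : B} {N : ℕ} (hN : 0 < N) (e : Fin r → ℕ) (he : ∀ i, e i < N)
    (hw : w ^ N * algebraMap A B (∏ i, x i ^ e i) ∈ (algebraMap A B).range) : w ∈ (algebraMap A B).range := by
  have hπ : ∏ i, x i ≠ 0 := Finset.prod_ne_zero_iff.2 fun i _ => (hx i).ne_zero
  obtain ⟨a, ha⟩ := hw
  have hsplit : (∏ i, x i) ^ N = (∏ i, x i ^ e i) * ∏ i, x i ^ (N - e i) := by
    rw [← Finset.prod_pow, ← Finset.prod_mul_distrib]
    exact Finset.prod_congr rfl fun i _ => by rw [← pow_add, Nat.add_sub_cancel' (he i).le]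
  have hwN : (w * algebraMap A B (∏ i, x i)) ^ N = algebraMap A B (a * ∏ i, x i ^ (N - e i)) := by
    rw [mul_pow, ← map_pow, hsplit, map_mul, ← mul_assoc, ← ha, ← map_mul]
  obtain ⟨b, hb⟩ := mem_range_of_pow hπ hN ⟨_, hwN.symm⟩
  have hbN : b ^ N = a * ∏ i, x i ^ (N - e i) := by
    apply IsLocalization.injective B (M := Submonoid.powers (∏ i, x i)) (powers_le_nonZeroDivisors_of_noZeroDivisors hπ)
    rw [map_pow, hb, hwN]
  obtain ⟨c, rfl⟩ := prod_dvd x hx hxa (a := b) fun i => (hx i).dvd_of_dvd_pow (hbN ▸
    dvd_mul_of_dvd_right ((dvd_pow_self _ (by have := he i; omega)).trans (Finset.dvd_prod_of_mem (fun i => x i ^ (N - e i)) (Finset.mem_univ i))) a)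
  refine ⟨c, (IsLocalization.map_units B (⟨_, Submonoid.mem_powers (∏ i, x i)⟩ : Submonoid.powers (∏ i, x i))).mul_left_injective ?_⟩
  show algebraMap A B c * algebraMap A B (∏ i, x i) = w * algebraMap A B (∏ i, x i)
  rw [← hb, map_mul, mul_comm]

/-- An extension ring containing an `N`-th root. -/
theorem exists_root {B : Type u} [CommRing B] [Nontrivial B] (c : B) {N : ℕ} (hN : 0 < N) :
    ∃ (C : Type u) (_ : CommRing C) (_ : Algebra B C) (w : C),
      Function.Injective (algebraMap B C) ∧ w ^ N = algebraMap B C c := by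
  refine ⟨AdjoinRoot (Polynomial.X ^ N - Polynomial.C c), inferInstance, inferInstance, AdjoinRoot.root _, ?_, ?_⟩
  · rw [AdjoinRoot.algebraMap_eq, injective_iff_map_eq_zero]
    intro b hb
    have h : Polynomial.X ^ N - Polynomial.C c ∣ Polynomial.C b := AdjoinRoot.mk_eq_zero.1 (by rw [AdjoinRoot.mk_C]; exact hb)
    by_contra hb0
    refine (Polynomial.monic_X_pow_sub_C c hN.ne').not_dvd_of_degree_lt (Polynomial.C_ne_zero.2 hb0) ?_ h
    rw [Polynomial.degree_C hb0, Polynomial.degree_X_pow_sub_C hN]
    exact_mod_cast hN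
  · have := AdjoinRoot.eval₂_root (Polynomial.X ^ N - Polynomial.C c)
    rw [Polynomial.eval₂_sub, Polynomial.eval₂_X_pow, Polynomial.eval₂_C, sub_eq_zero] at this
    exact this

theorem integral_coeff {A C : Type u} [CommRing A] [CommRing C] [Algebra A C] {z y : WittVector p C}
    {m : ℕ} (f : WittVector p (integralClosure A C) → WittVector p (integralClosure A C) → WittVector p (integralClosure A C))
    (g : WittVector p C → WittVector p C → WittVector p C)
    (hfg : ∀ a b, WittVector.map (integralClosure A C).val.toRingHom (f a b) = g (WittVector.map (integralClosure A C).val.toRingHom a) (WittVector.map (integralClosure A C).val.toRingHom b))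
    (hz : ∀ i < m, IsIntegral A (z.coeff i)) (hy : ∀ i < m, IsIntegral A (y.coeff i))
    (hg : ∀ z z' y y' : WittVector p C, WittVector.truncate m z = WittVector.truncate m z' →
      WittVector.truncate m y = WittVector.truncate m y' → WittVector.truncate m (g z y) = WittVector.truncate m (g z' y'))
    (j : ℕ) (hj : j < m) : IsIntegral A ((g z y).coeff j) := by
  classical
  let zi : WittVector p (integralClosure A C) := WittVector.mk p fun i => if h : i < m then ⟨z.coeff i, hz i h⟩ else 0
  let yi : WittVector p (integralClosure A C) := WittVector.mk p fun i => if h : i < m then ⟨y.coeff i, hy i h⟩ else 0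
  have hz' : WittVector.truncate m z = WittVector.truncate m (WittVector.map (integralClosure A C).val.toRingHom zi) := by
    apply TruncatedWittVector.ext
    intro i
    rw [coeff_truncate, coeff_truncate, map_coeff]
    simp [zi, i.2]
  have hy' : WittVector.truncate m y = WittVector.truncate m (WittVector.map (integralClosure A C).val.toRingHom yi) := by
    apply TruncatedWittVector.ext
    intro i
    rw [coeff_truncate, coeff_truncate, map_coeff]
    simp [yi, i.2]
  have h := congrArg (TruncatedWittVector.coeff (⟨j, hj⟩ : Fin m)) (hg _ _ _ _ hz' hy')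
  rw [coeff_truncate, coeff_truncate, ← hfg, map_coeff] at h
  show IsIntegral A ((g z y).coeff j)
  rw [h]
  exact ((f zi yi).coeff j).2

theorem mem_fil_op {A B : Type u} [CommRing A] [IsDomain A] [IsIntegrallyClosed A] [CommRing B] [Algebra A B]
    {π : A} (hπ : π ≠ 0) [IsLocalization.Away π B] {m : ℕ} (c c' c'' : B)
    (g : ∀ (C : Type u) [CommRing C], WittVector p C → WittVector p C → WittVector p C)
    (hnat : ∀ (C C' : Type u) [CommRing C] [CommRing C'] (f : C →+* C') (a b : WittVector p C),
      WittVector.map f (g C a b) = g C' (WittVector.map f a) (WittVector.map f b))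
    (hg : ∀ (C : Type u) [CommRing C] (z z' y y' : WittVector p C), WittVector.truncate m z = WittVector.truncate m z' →
      WittVector.truncate m y = WittVector.truncate m y' → WittVector.truncate m (g C z y) = WittVector.truncate m (g C z' y'))
    {C : Type u} [CommRing C] [Algebra B C] (hinj : Function.Injective (algebraMap B C)) (w w' w'' : C)
    (hwC : w ^ p ^ (m - 1) = algebraMap B C c) (hw' : w' ^ p ^ (m - 1) = algebraMap B C c')
    (hw'' : w'' ^ p ^ (m - 1) = algebraMap B C c'')
    (hsc : ∀ a b : WittVector p C, g C (teichmuller p w * a) (teichmuller p w' * b) = teichmuller p w'' * g C a b)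
    (a b : WittVector p B) (ha : WittVector.truncate m a ∈ WittFil.fil p m (A := A) c)
    (hb : WittVector.truncate m b ∈ WittFil.fil p m (A := A) c') :
    WittVector.truncate m (g B a b) ∈ WittFil.fil p m (A := A) c'' := by
  letI : Algebra A C := ((algebraMap B C).comp (algebraMap A B)).toAlgebra
  haveI : IsScalarTower A B C := IsScalarTower.of_algebraMap_eq fun _ => rfl
  have hcomp : ∀ (v : C) (e : B), v ^ p ^ (m - 1) = algebraMap B C e → ∀ (z : WittVector p B) (i : ℕ), i < m →
      ((teichmuller p v * WittVector.map (algebraMap B C) z).coeff i) ^ p ^ (m - 1 - i) =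
        algebraMap B C (z.coeff i ^ p ^ (m - 1 - i) * e) := by
    intro v e hv z i hi
    rw [teichmuller_mul_coeff, map_coeff, mul_pow, ← pow_mul, ← pow_add, Nat.add_sub_cancel' (by omega : i ≤ m - 1),
      hv, map_mul, map_pow, mul_comm]
  have hint : ∀ (v : C) (e : B), v ^ p ^ (m - 1) = algebraMap B C e → ∀ z : WittVector p B,
      WittVector.truncate m z ∈ WittFil.fil p m (A := A) e →
      ∀ i < m, IsIntegral A ((teichmuller p v * WittVector.map (algebraMap B C) z).coeff i) := by
    intro v e hv z hz i hi
    obtain ⟨a', ha'⟩ := hz ⟨i, hi⟩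
    rw [coeff_truncate] at ha'
    refine IsIntegral.of_pow (pow_pos hp.out.pos (m - 1 - i)) ?_
    rw [hcomp v e hv z i hi, ← ha', ← IsScalarTower.algebraMap_apply]
    exact isIntegral_algebraMap
  intro j
  rw [coeff_truncate]
  refine integral_mem_range hπ ((isIntegral_algHom_iff (IsScalarTower.toAlgHom A B C) hinj).1 ?_)
  have h := integral_coeff (g (integralClosure A C)) (g C) (fun a b => hnat _ C _ a b) (hint _ c hwC a ha) (hint w' c' hw' b hb)
    (hg C) j.1 j.2
  rw [hsc, ← hnat] at h
  rw [IsScalarTower.coe_toAlgHom', ← hcomp w'' c'' hw'' (g B a b) j.1 j.2]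
  exact h.pow _

theorem teichmuller_zpow_mul {B : Type u} [CommRing B] (u : Bˣ) (l : ℤ) (j : ℕ) (m : ℕ) (hj : j < m)
    (a : TruncatedWittVector p m B) :
    (WittVector.truncate m (teichmuller p ((u ^ l : Bˣ) : B)) * a).coeff ⟨j, hj⟩ =
      ((u ^ ((p : ℤ) ^ j * l) : Bˣ) : B) * a.coeff ⟨j, hj⟩ := by
  obtain ⟨a, rfl⟩ := WittVector.truncate_surjective p m B a
  rw [← map_mul, coeff_truncate, coeff_truncate, teichmuller_mul_coeff, ← Units.val_pow_eq_pow_val, ← zpow_natCast, ← zpow_mul]
  push_cast
  rw [mul_comm l]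

end Groth.Agent.WittFil29
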